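import Groth.Agent.S11468
import Mathlib

/-!
# Rigidity for a flat closed map with a section
-/

set_option autoImplicit false
set_option backward.isDefEq.respectTransparency false
set_option maxHeartbeats 1000000
set_option synthInstance.maxHeartbeats 400000

universe u

noncomputable section

open CategoryTheory CategoryTheory.Limits AlgebraicGeometry TopologicalSpace

namespace RigidSecLib

variable {S X Y : Scheme.{u}} (p : X ⟶ S)

/-- The `n`-th thickened fibre has only constant functions. -/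
theorem isIso_thick [IsLocallyNoetherian S] [Flat p] (s : S)
    (h0 : Function.Bijective (pullback.snd p (S.fromSpecResidueField s)).appTop) (n : ℕ) :
    IsIso (pullback.snd p (Spec.map (CommRingCat.ofHom
      (Ideal.Quotient.mk (IsLocalRing.maximalIdeal (S.presheaf.stalk s) ^ (n + 1)))) ≫ S.fromSpecStalk s)).appTop := by
  let A := S.presheaf.stalk s
  let J := IsLocalRing.maximalIdeal A ^ (n + 1)
  let C := A ⧸ J
  have hJ : J ≤ IsLocalRing.maximalIdeal A := Ideal.pow_le_self n.succ_ne_zero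
  haveI : Nontrivial C := Ideal.Quotient.nontrivial_iff.mpr fun e =>
    (IsLocalRing.maximalIdeal.isMaximal A).ne_top (top_le_iff.mp (e.ge.trans hJ))
  haveI : IsLocalRing C := IsLocalRing.of_surjective' (Ideal.Quotient.mk J) Ideal.Quotient.mk_surjective
  haveI : IsArtinianRing C := by
    refine (isArtinianRing_iff_isNilpotent_maximalIdeal C).mpr ⟨n + 1, ?_⟩
    rw [← IsLocalRing.map_maximalIdeal_of_surjective (Ideal.Quotient.mk J) Ideal.Quotient.mk_surjective,
      ← Ideal.map_pow, Ideal.zero_eq_bot, Ideal.map_eq_bot_iff_le_ker, Ideal.mk_ker]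
  let φ : A ⟶ CommRingCat.of C := CommRingCat.ofHom (Ideal.Quotient.mk J)
  let π : CommRingCat.of C ⟶ CommRingCat.of (C ⧸ IsLocalRing.maximalIdeal C) :=
    CommRingCat.ofHom (Ideal.Quotient.mk _)
  let c := Spec.map φ ≫ S.fromSpecStalk s
  let g := pullback.snd p c
  haveI : Flat g := MorphismProperty.pullback_snd _ _ ‹Flat p›
  -- the closed fibre
  let L : Type u := C ⧸ IsLocalRing.maximalIdeal C
  letI : Field L := Ideal.Quotient.field _
  let ψ : A ⟶ CommRingCat.of L := φ ≫ π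
  have hsurj : Function.Surjective ψ.hom :=
    Ideal.Quotient.mk_surjective.comp Ideal.Quotient.mk_surjective
  have hker : RingHom.ker ψ.hom = IsLocalRing.maximalIdeal A := by
    refine ((IsLocalRing.maximalIdeal.isMaximal A).eq_of_le (RingHom.ker_ne_top _) fun a ha => ?_).symm
    rw [RingHom.mem_ker]
    refine Ideal.Quotient.eq_zero_iff_mem.mpr ?_
    rw [← IsLocalRing.map_maximalIdeal_of_surjective (Ideal.Quotient.mk J) Ideal.Quotient.mk_surjective]
    exact Ideal.mem_map_of_mem _ ha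
  let θ : S.residueField s ⟶ CommRingCat.of L :=
    CommRingCat.ofHom (Ideal.Quotient.lift (IsLocalRing.maximalIdeal A) ψ.hom fun a ha => by
      rwa [← hker, RingHom.mem_ker] at ha)
  have hθ : S.residue s ≫ θ = ψ := CommRingCat.hom_ext (RingHom.ext fun a => rfl)
  haveI : IsIso θ := by
    rw [ConcreteCategory.isIso_iff_bijective]
    refine ⟨RingHom.injective _, fun y => ?_⟩
    obtain ⟨a, rfl⟩ := hsurj y
    exact ⟨S.residue s a, congrArg (fun m : A ⟶ CommRingCat.of L => m a) hθ⟩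
  have hψ : Spec.map π ≫ c = Spec.map θ ≫ S.fromSpecResidueField s := by
    simp only [c, Scheme.fromSpecResidueField, ← Spec.map_comp_assoc, hθ]
    rfl
  let f₀ := pullback.snd g (Spec.map π)
  have sq : IsPullback (pullback.fst g (Spec.map π) ≫ pullback.fst p c) f₀ p (Spec.map θ ≫ S.fromSpecResidueField s) :=
    hψ ▸ (IsPullback.of_hasPullback g (Spec.map π)).paste_horiz (IsPullback.of_hasPullback p c)
  let r : pullback g (Spec.map π) ⟶ pullback p (S.fromSpecResidueField s) :=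
    pullback.lift (pullback.fst g (Spec.map π) ≫ pullback.fst p c) (f₀ ≫ Spec.map θ)
      (by rw [Category.assoc]; exact sq.w.trans (by rw [Category.assoc]))
  have sq2 : IsPullback r f₀ (pullback.snd p (S.fromSpecResidueField s)) (Spec.map θ) :=
    IsPullback.of_right (by rw [pullback.lift_fst]; exact sq) (pullback.lift_snd _ _ _)
      (IsPullback.of_hasPullback p (S.fromSpecResidueField s))
  haveI : IsIso r := sq2.isIso_fst_of_isIso
  have hf₀ : IsIso f₀.appTop := by
    have e : f₀ = r ≫ pullback.snd p (S.fromSpecResidueField s) ≫ inv (Spec.map θ) := by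
      rw [pullback.lift_snd_assoc, Category.assoc, IsIso.hom_inv_id, Category.comp_id]
    rw [e, Scheme.Hom.comp_appTop, Scheme.Hom.comp_appTop]
    haveI : IsIso (pullback.snd p (S.fromSpecResidueField s)).appTop :=
      (ConcreteCategory.isIso_iff_bijective _).mpr h0
    infer_instance
  haveI := hf₀
  haveI : IsIso ((Scheme.ΓSpecIso (CommRingCat.of C)).inv ≫ g.appTop) := by
    rw [ConcreteCategory.isIso_iff_bijective]
    exact Groth.Agent.S11468.result C _ _ g _ f₀ (IsPullback.of_hasPullback g (Spec.map π))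
      (ConcreteCategory.bijective_of_isIso _)
  exact IsIso.of_isIso_comp_left (Scheme.ΓSpecIso (CommRingCat.of C)).inv g.appTop

/-- If `f` collapses the fibre through `x` to a point, it agrees with `p ≫ e ≫ f` at the local ring of `x`. -/
theorem fromSpecStalk_eq [IsLocallyNoetherian S] [IsLocallyNoetherian X] [Flat p] (e : S ⟶ X)
    (he : e ≫ p = 𝟙 S) (f : X ⟶ Y) (x : X)
    (h0 : Function.Bijective (pullback.snd p (S.fromSpecResidueField (p x))).appTop)
    (hc : ∀ x', p x' = p x → f x' = (e ≫ f) (p x)) :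
    X.fromSpecStalk x ≫ f = X.fromSpecStalk x ≫ p ≫ e ≫ f := by
  obtain ⟨U, hU, hyU, -⟩ := exists_isAffineOpen_mem_and_subset (U := (⊤ : Y.Opens)) (x := f x) trivial
  haveI : IsAffine U.toScheme := hU
  have hfx : f x = (p ≫ e ≫ f) x := by
    rw [Scheme.Hom.comp_apply]; exact hc x rfl
  have hrange : ∀ m : X ⟶ Y, m x = f x → Set.range (X.fromSpecStalk x ≫ m).base ⊆ Set.range U.ι.base := by
    rintro m hm _ ⟨z, rfl⟩
    rw [Scheme.Opens.range_ι]
    have hz : X.fromSpecStalk x z ⤳ x := Scheme.range_fromSpecStalk.subset ⟨z, rfl⟩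
    exact (hz.map m.continuous).mem_open U.isOpen (hm ▸ hyU)
  let φ₁ := IsOpenImmersion.lift U.ι _ (hrange f rfl)
  let φ₂ := IsOpenImmersion.lift U.ι _ (hrange (p ≫ e ≫ f) hfx.symm)
  suffices φ₁.appTop = φ₂.appTop by
    rw [← IsOpenImmersion.lift_fac U.ι _ (hrange f rfl), ← IsOpenImmersion.lift_fac U.ι _ (hrange _ hfx.symm)]
    exact congrArg (· ≫ U.ι) (ext_of_isAffine this)
  let I := IsLocalRing.maximalIdeal (S.presheaf.stalk (p x))
  let M := I.map (p.stalkMap x).hom
  have hM : M ≠ ⊤ := ne_top_of_le_ne_top (IsLocalRing.maximalIdeal.isMaximal _).ne_top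
    (Ideal.map_le_iff_le_comap.2 fun a ha hu => ha (IsUnit.of_map (p.stalkMap x).hom a hu))
  haveI : IsNoetherianRing (X.presheaf.stalk x) := inferInstance
  have key : ∀ n : ℕ, φ₁.appTop ≫ (Scheme.ΓSpecIso _).hom ≫ CommRingCat.ofHom (Ideal.Quotient.mk (M ^ (n + 1))) =
      φ₂.appTop ≫ (Scheme.ΓSpecIso _).hom ≫ CommRingCat.ofHom (Ideal.Quotient.mk (M ^ (n + 1))) := by
    intro n
    let J := I ^ (n + 1)
    let φ : S.presheaf.stalk (p x) ⟶ CommRingCat.of (S.presheaf.stalk (p x) ⧸ J) :=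
      CommRingCat.ofHom (Ideal.Quotient.mk J)
    let ψ : X.presheaf.stalk x ⟶ CommRingCat.of (X.presheaf.stalk x ⧸ M ^ (n + 1)) :=
      CommRingCat.ofHom (Ideal.Quotient.mk _)
    let c := Spec.map φ ≫ S.fromSpecStalk (p x)
    have hle : J ≤ (M ^ (n + 1)).comap (p.stalkMap x).hom :=
      Ideal.map_le_iff_le_comap.1 (le_of_eq (Ideal.map_pow _ _ _))
    let δ : CommRingCat.of (S.presheaf.stalk (p x) ⧸ J) ⟶ CommRingCat.of (X.presheaf.stalk x ⧸ M ^ (n + 1)) :=
      CommRingCat.ofHom (Ideal.quotientMap _ (p.stalkMap x).hom hle)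
    have hδ : φ ≫ δ = p.stalkMap x ≫ ψ := CommRingCat.hom_ext (RingHom.ext fun a => rfl)
    let l : Spec (CommRingCat.of (X.presheaf.stalk x ⧸ M ^ (n + 1))) ⟶ pullback p c :=
      pullback.lift (Spec.map ψ ≫ X.fromSpecStalk x) (Spec.map δ) (by
        simp only [c, Category.assoc, ← Scheme.SpecMap_stalkMap_fromSpecStalk, ← Spec.map_comp_assoc, hδ])
    let σ : Spec (CommRingCat.of (S.presheaf.stalk (p x) ⧸ J)) ⟶ pullback p c :=
      pullback.lift (c ≫ e) (𝟙 _) (by rw [Category.assoc, he, Category.comp_id, Category.id_comp])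
    have hcs : ∀ z, c z = p x := fun z => by
      have h1 : c z ⤳ p x := Scheme.range_fromSpecStalk.subset ⟨Spec.map φ z, rfl⟩
      have hz : (IsLocalRing.closedPoint (S.presheaf.stalk (p x))) = Spec.map φ z := by
        refine PrimeSpectrum.ext ((IsLocalRing.maximalIdeal.isMaximal _).eq_of_le (Spec.map φ z).isPrime.ne_top ?_)
        intro a ha
        refine z.isPrime.mem_of_pow_mem (n + 1) ?_
        show φ.hom a ^ (n + 1) ∈ z.asIdeal
        rw [← map_pow, show φ.hom (a ^ (n + 1)) = 0 from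
          Ideal.Quotient.eq_zero_iff_mem.2 (Ideal.pow_mem_pow ha _)]
        exact z.asIdeal.zero_mem
      rw [show c z = S.fromSpecStalk (p x) (Spec.map φ z) from rfl, ← hz, Scheme.fromSpecStalk_closedPoint]
    have hp' : ∀ z, p ((pullback.fst p c) z) = p x := fun z => by
      rw [← Scheme.Hom.comp_apply, pullback.condition, Scheme.Hom.comp_apply, hcs]
    have hr : ∀ m : X ⟶ Y, (∀ x', p x' = p x → m x' = f x) →
        Set.range (pullback.fst p c ≫ m).base ⊆ Set.range U.ι.base := by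
      rintro m hm _ ⟨z, rfl⟩
      rw [Scheme.Opens.range_ι]
      show m ((pullback.fst p c) z) ∈ U
      rw [hm _ (hp' z)]
      exact hyU
    have h1 : ∀ x', p x' = p x → f x' = f x := fun x' hx' => (hc x' hx').trans (hc x rfl).symm
    have h2 : ∀ x', p x' = p x → (p ≫ e ≫ f) x' = f x := fun x' hx' => by
      rw [Scheme.Hom.comp_apply, hx']; exact (hc x rfl).symm
    let a₁ := IsOpenImmersion.lift U.ι _ (hr f h1)
    let a₂ := IsOpenImmersion.lift U.ι _ (hr (p ≫ e ≫ f) h2)
    haveI := isIso_thick p (p x) h0 n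
    have hσ : σ ≫ a₁ = σ ≫ a₂ := by
      rw [← cancel_mono U.ι, Category.assoc, Category.assoc, IsOpenImmersion.lift_fac, IsOpenImmersion.lift_fac]
      simp only [σ, pullback.lift_fst_assoc, Category.assoc, reassoc_of% he]
    have hsnd : σ.appTop = inv (pullback.snd p c).appTop := by
      refine IsIso.eq_inv_of_hom_inv_id ?_
      rw [← Scheme.Hom.comp_appTop, pullback.lift_snd, Scheme.Hom.id_appTop]
    have ha : a₁ = a₂ := by
      refine ext_of_isAffine ?_
      have := congrArg Scheme.Hom.appTop hσ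
      rw [Scheme.Hom.comp_appTop, Scheme.Hom.comp_appTop, hsnd, cancel_mono] at this
      exact this
    have e1 : Spec.map ψ ≫ φ₁ = l ≫ a₁ := by
      rw [← cancel_mono U.ι, Category.assoc, Category.assoc, IsOpenImmersion.lift_fac, IsOpenImmersion.lift_fac,
        pullback.lift_fst_assoc, Category.assoc]
    have e2 : Spec.map ψ ≫ φ₂ = l ≫ a₂ := by
      rw [← cancel_mono U.ι, Category.assoc, Category.assoc, IsOpenImmersion.lift_fac, IsOpenImmersion.lift_fac,
        pullback.lift_fst_assoc, Category.assoc]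
    have := congrArg Scheme.Hom.appTop (e1.trans ((congrArg (l ≫ ·) ha).trans e2.symm))
    rw [Scheme.Hom.comp_appTop, Scheme.Hom.comp_appTop] at this
    rw [← Scheme.ΓSpecIso_naturality ψ, ← Category.assoc, ← Category.assoc, this]
  refine CommRingCat.hom_ext (RingHom.ext fun b => ?_)
  refine ((ConcreteCategory.isIso_iff_bijective (Scheme.ΓSpecIso (X.presheaf.stalk x)).hom).mp inferInstance).1 ?_
  rw [← sub_eq_zero, ← Ideal.mem_bot, ← Ideal.iInf_pow_eq_bot_of_isLocalRing M hM, Submodule.mem_iInf]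
  intro n
  refine Ideal.pow_le_pow_right (Nat.le_succ n) ?_
  rw [← Ideal.Quotient.eq_zero_iff_mem, map_sub, sub_eq_zero]
  exact congrArg (fun m : Γ(U.toScheme, ⊤) ⟶ CommRingCat.of (X.presheaf.stalk x ⧸ M ^ (n + 1)) => m b) (key n)

/-- Agreement over a neighbourhood of a collapsed fibre. -/
theorem exists_nhd [IsLocallyNoetherian S] [IsLocallyNoetherian X] [Flat p] (hcl : IsClosedMap p)
    (e : S ⟶ X) (he : e ≫ p = 𝟙 S) (f : X ⟶ Y) (s : S)
    (h0 : ∀ s : S, Function.Bijective (pullback.snd p (S.fromSpecResidueField s)).appTop)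
    (hc : ∀ x, p x = s → f x = (e ≫ f) s) :
    ∃ W : S.Opens, s ∈ W ∧ (p ⁻¹ᵁ W).ι ≫ f = (p ⁻¹ᵁ W).ι ≫ p ≫ e ≫ f := by
  let V : Set X := {x | ∃ U : X.Opens, x ∈ U ∧ U.ι ≫ f = U.ι ≫ p ≫ e ≫ f}
  have hV : IsOpen V := isOpen_iff_forall_mem_open.2 fun x ⟨U, hx, hU⟩ =>
    ⟨U, fun z hz => ⟨U, hz, hU⟩, U.isOpen, hx⟩
  have hfib : ∀ x, p x = s → x ∈ V := fun x hx => by
    subst hx
    exact spread_out_unique_of_isGermInjective' f (p ≫ e ≫ f)
      (fromSpecStalk_eq p e he f x (h0 _) hc)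
  let W : S.Opens := ⟨(p '' Vᶜ)ᶜ, (hcl _ hV.isClosed_compl).isOpen_compl⟩
  refine ⟨W, fun ⟨x, hx, hxs⟩ => hx (hfib x hxs), ?_⟩
  have hcov : ∀ z : (p ⁻¹ᵁ W), ∃ U : X.Opens, (z : X) ∈ U ∧ U.ι ≫ f = U.ι ≫ p ≫ e ≫ f := fun z => by
    by_contra hz
    exact z.2 ⟨z.1, hz, rfl⟩
  choose U hzU hU using hcov
  refine ((p ⁻¹ᵁ W).toScheme.openCoverOfIsOpenCover (fun z => (p ⁻¹ᵁ W).ι ⁻¹ᵁ U z)
    (top_le_iff.mp fun z _ => Opens.mem_iSup.2 ⟨z, hzU z⟩)).hom_ext _ _ fun z => ?_
  show ((p ⁻¹ᵁ W).ι ⁻¹ᵁ U z).ι ≫ (p ⁻¹ᵁ W).ι ≫ f = ((p ⁻¹ᵁ W).ι ⁻¹ᵁ U z).ι ≫ (p ⁻¹ᵁ W).ι ≫ p ≫ e ≫ f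
  rw [← morphismRestrict_ι_assoc, hU z, morphismRestrict_ι_assoc]

/-- An open set stable under specialisation in a locally Noetherian scheme is closed. -/
theorem isClosed_of_isOpen_stableUnderSpecialization [IsLocallyNoetherian S] {L : Set S} (ho : IsOpen L)
    (hs : StableUnderSpecialization L) : IsClosed L := by
  have hc : IsOpenCover (fun V : S.affineOpens => V.1) := iSup_affineOpens_eq_top S
  refine hc.isClosed_iff_coe_preimage.2 fun V => ?_
  haveI : IsNoetherianRing Γ(S, V.1) := IsLocallyNoetherian.component_noetherian V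
  let e : V.1.toScheme ≃ₜ PrimeSpectrum Γ(S, V.1) := Scheme.homeoOfIso V.2.isoSpec
  rw [← e.symm.isClosed_preimage]
  have ho' : IsOpen (e.symm ⁻¹' (Subtype.val ⁻¹' L : Set V.1.toScheme)) :=
    (ho.preimage continuous_subtype_val).preimage e.symm.continuous
  refine PrimeSpectrum.isClosed_of_stableUnderSpecialization_of_isConstructible ?_
    (IsRetrocompact.isConstructible ho' (fun _ _ _ => TopologicalSpace.NoetherianSpace.isCompact _))
  intro a b hab ha
  exact hs (hab.map (continuous_subtype_val.comp e.symm.continuous)) ha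

/-- Rigidity. -/
theorem eq_section_comp [IsLocallyNoetherian S] [IsLocallyNoetherian X] [ConnectedSpace S] [Flat p]
    (hcl : IsClosedMap p) (q : Y ⟶ S) [IsSeparated q] (f : X ⟶ Y) (hf : f ≫ q = p) (e : S ⟶ X)
    (he : e ≫ p = 𝟙 S) (h0 : ∀ s : S, Function.Bijective (pullback.snd p (S.fromSpecResidueField s)).appTop)
    (s : S) (hs : ∀ x x', p x = s → p x' = s → f x = f x') : f = p ≫ e ≫ f := by
  let L : Set S := {s | ∀ x, p x = s → f x = (e ≫ f) s}
  have hnhd : ∀ s ∈ L, ∃ W : S.Opens, s ∈ W ∧ (p ⁻¹ᵁ W).ι ≫ f = (p ⁻¹ᵁ W).ι ≫ p ≫ e ≫ f :=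
    fun s hs => exists_nhd p hcl e he f s h0 hs
  have hsL : s ∈ L := fun x hx => hs x (e s) hx (by
    rw [← Scheme.Hom.comp_apply, he]; rfl)
  have ho : IsOpen L := isOpen_iff_forall_mem_open.2 fun s hs => by
    obtain ⟨W, hsW, hW⟩ := hnhd s hs
    refine ⟨W, fun s' hs' x hx => ?_, W.isOpen, hsW⟩
    have hxW : x ∈ p ⁻¹ᵁ W := by show p x ∈ W; rw [hx]; exact hs'
    have := congrArg (fun m : (p ⁻¹ᵁ W).toScheme ⟶ Y => m ⟨x, hxW⟩) hW
    subst hx
    exact this
  have hsp : StableUnderSpecialization L := by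
    intro s₁ s₀ hsp hs₁ x₀ hx₀
    subst hx₀
    obtain ⟨x₁, hx₁, hx₁s⟩ := Flat.generalizingMap p hsp
    obtain ⟨W, hsW, hW⟩ := hnhd s₁ hs₁
    let m := pullback.lift (f := q) (g := q) f (p ≫ e ≫ f)
      (by rw [Category.assoc, Category.assoc, hf, he, Category.comp_id])
    let ei := pullback.snd (pullback.diagonal q) m
    haveI : IsClosedImmersion ei := MorphismProperty.pullback_snd _ _ inferInstance
    have hxW : x₁ ∈ p ⁻¹ᵁ W := by show p x₁ ∈ W; rw [hx₁s]; exact hsW
    let l : (p ⁻¹ᵁ W).toScheme ⟶ pullback (pullback.diagonal q) m :=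
      pullback.lift ((p ⁻¹ᵁ W).ι ≫ f) (p ⁻¹ᵁ W).ι (by
        apply pullback.hom_ext
        · simp [m]
        · simp [m, hW])
    have h1 : x₁ ∈ Set.range ei.base := ⟨l ⟨x₁, hxW⟩, by
      rw [← Scheme.Hom.comp_apply, pullback.lift_snd]; rfl⟩
    obtain ⟨z, hz⟩ := hx₁.mem_closed ei.isClosedEmbedding.isClosed_range h1
    have e1 : ei ≫ f = ei ≫ p ≫ e ≫ f := by
      have a1 := congrArg (· ≫ pullback.fst q q) (pullback.condition (f := pullback.diagonal q) (g := m))
      have a2 := congrArg (· ≫ pullback.snd q q) (pullback.condition (f := pullback.diagonal q) (g := m))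
      simp [m] at a1 a2
      exact a1.symm.trans a2
    rw [← hz]
    exact congrArg (fun n : pullback (pullback.diagonal q) m ⟶ Y => n z) e1
  have hu : L = Set.univ :=
    IsClopen.eq_univ ⟨isClosed_of_isOpen_stableUnderSpecialization ho hsp, ho⟩ ⟨s, hsL⟩
  choose W hW₁ hW₂ using fun s : S => hnhd s (hu.symm ▸ trivial)
  refine (X.openCoverOfIsOpenCover (fun s => p ⁻¹ᵁ W s)
    (top_le_iff.mp fun x _ => Opens.mem_iSup.2 ⟨p x, hW₁ (p x)⟩)).hom_ext _ _ fun s => ?_
  exact hW₂ s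

end RigidSecLib
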